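import Cfsg.Agent.HNRec.Phantom.Table

/-!
If the class of size 46200 is fused to the central involution, an element exchanging the two acts
on the centraliser of the pair as the tabled automorphism.
-/

set_option autoImplicit false
set_option maxRecDepth 100000
set_option linter.unusedSectionVars false

namespace Cfsg.Agent.HNRec.Phantom

open Cfsg.Agent.CosetCert Cfsg.Agent.DCoset Fusion PhantomData

variable {G : Type*} [Group G] (S : Setting G)

/-- `g` takes `d` to `e`. -/
def Conj (g : G) (d e : HP) : Prop := g * S.Φ d = S.Φ e * g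

variable {S}

theorem Conj.mul {g : G} {d e d' e' : HP} (h : Conj S g d e) (h' : Conj S g d' e') :
    Conj S g (d * d') (e * e') :=
  calc g * S.Φ (d * d') = g * S.Φ d * S.Φ d' := by rw [map_mul, mul_assoc]
    _ = S.Φ e * (g * S.Φ d') := by rw [h, mul_assoc]
    _ = _ := by rw [h', map_mul, mul_assoc]

theorem Conj.one {g : G} : Conj S g 1 1 := by rw [Conj, map_one, mul_one, one_mul]

theorem Conj.trans {g g' : G} {d e f : HP} (h : Conj S g d e) (h' : Conj S g' e f) :
    Conj S (g' * g) d f :=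
  calc g' * g * S.Φ d = g' * (g * S.Φ d) := mul_assoc _ _ _
    _ = g' * S.Φ e * g := by rw [h, ← mul_assoc]
    _ = _ := by rw [h', mul_assoc]

theorem Conj.inv {g : G} {d e : HP} (h : Conj S g d e) : Conj S g⁻¹ e d := by
  rw [Conj, eq_comm, eq_inv_mul_iff_mul_eq, ← mul_assoc, h, mul_assoc, mul_inv_cancel, mul_one]

theorem Conj.right_eq {g : G} {d e e' : HP} (h : Conj S g d e) (h' : Conj S g d e') : e = e' :=
  S.inj (mul_right_cancel (h.symm.trans h'))

theorem Conj.iff {g : G} {d e d' e' : HP} (h : Conj S g d e) (h' : Conj S g d' e') : d = d' ↔ e = e' :=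
  ⟨fun hd => (hd ▸ h : Conj S g d' e).right_eq h', fun he => (he ▸ h.inv : Conj S g⁻¹ e' d).right_eq h'.inv⟩

theorem Conj.comm {g : G} {d e d' e' : HP} (h : Conj S g d e) (h' : Conj S g d' e')
    (hc : d * d' = d' * d) : e * e' = e' * e :=
  ((h.mul h').iff (h'.mul h)).1 hc

/-- An element of the model conjugates. -/
theorem Conj.of_mul {c d e : HP} (h : c * d = e * c) : Conj S (S.Φ c) d e := by
  rw [Conj, ← map_mul, ← map_mul, h]

theorem Conj.list {g : G} {α : Type*} (u v : α → HP) (l : List α) (h : ∀ a ∈ l, Conj S g (u a) (v a)) :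
    Conj S g (l.map u).prod (l.map v).prod := by
  induction l with
  | nil => exact Conj.one
  | cons a l ih =>
    rw [List.map_cons, List.map_cons, List.prod_cons, List.prod_cons]
    exact (h a (List.mem_cons_self ..)).mul (ih fun b hb => h b (List.mem_cons_of_mem a hb))

/-- The image of an element commuting with the preimage of the central involution. -/
theorem Conj.exists_right {g : G} {d b : HP} (hb : Conj S g b hT) (hd : d * b = b * d) :
    ∃ e, Conj S g d e := by
  obtain ⟨e, he⟩ := S.mem_range (g * S.Φ d * g⁻¹) (by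
    have h1 : S.Φ hT = g * S.Φ b * g⁻¹ := eq_mul_inv_of_mul_eq hb.symm
    have h2 : S.Φ d * S.Φ b = S.Φ b * S.Φ d := by rw [← map_mul, ← map_mul, hd]
    rw [h1]
    calc g * S.Φ d * g⁻¹ * (g * S.Φ b * g⁻¹) = g * (S.Φ d * S.Φ b) * g⁻¹ := by group
      _ = _ := by rw [h2]; group)
  exact ⟨e, by rw [Conj, he]; group⟩

/-- A word in the last two generators. -/
noncomputable def evalD (a b : ℕ) : List ℕ → ℕ :=
  fun w => List.rec (motive := fun _ => ℕ) i0
    (fun j _ ih => mulD (cond (Nat.beq j 0) a b) ih) w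

theorem evalD_spec {a b : ℕ} (ha : a < 3840) (hb : b < 3840) : ∀ w : List ℕ,
    evalD a b w < 3840 ∧ dE (evalD a b w) = (w.map fun j => cond (Nat.beq j 0) (dE a) (dE b)).prod
  | [] => ⟨start_ok.2.2, dE_i0⟩
  | j :: w => by
    obtain ⟨h1, h2⟩ := evalD_spec ha hb w
    have hc : cond (Nat.beq j 0) a b < 3840 := by cases Nat.beq j 0 <;> assumption
    obtain ⟨h3, h4⟩ := mulD_spec hc h1
    refine ⟨h3, ?_⟩
    show dE (mulD (cond (Nat.beq j 0) a b) (evalD a b w)) = _
    rw [← h4, h2, List.map_cons, List.prod_cons]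
    cases Nat.beq j 0 <;> rfl

theorem evalD_conj {g : G} {a b a' b' : ℕ} (ha : a < 3840) (hb : b < 3840) (ha' : a' < 3840) (hb' : b' < 3840)
    (h1 : Conj S g (dE a) (dE a')) (h2 : Conj S g (dE b) (dE b')) (w : List ℕ) :
    Conj S g (dE (evalD a b w)) (dE (evalD a' b' w)) := by
  rw [(evalD_spec ha hb w).2, (evalD_spec ha' hb' w).2]
  refine Conj.list _ _ w fun j _ => ?_
  cases Nat.beq j 0 <;> assumption

/-- The equations in the last two generators hold or fail alike. -/
noncomputable def flagsB (y : ℕ) : Bool :=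
  rules1.all fun r => cond (Nat.beq (evalD (gD 2) (gD 3) r.1) (evalD (gD 2) (gD 3) r.2))
    (Nat.beq (evalD (gD 2) y r.1) (evalD (gD 2) y r.2))
    (Bool.not (Nat.beq (evalD (gD 2) y r.1) (evalD (gD 2) y r.2)))

theorem three_ok : allFrom (fun i => Bool.rec (motive := fun _ => Bool) true
    (force (get16 conj3S i) fun e => gate (Nat.blt 0 e) (gate (Nat.blt (Nat.pred e) 3840)
      (Nat.beq (mulD (Nat.pred e) i) (mulD (gD 2) (Nat.pred e)))))
    (gate (Nat.beq (mulD (mulD i i) i) i0) (Bool.not (Nat.beq i i0)))) 0 3840 = true := by decide +kernel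

theorem good_ok : allFrom (fun y => Bool.rec (motive := fun _ => Bool) true
    (force (get16 goodS y) fun v => gate (Nat.blt 0 v) (force (Nat.div (Nat.pred v) 2) fun e =>
      gate (Nat.blt e 3840) (gate (Nat.beq (mulD e (gD 2)) (mulD (gD 2) e))
        (Nat.beq (mulD e y) (mulD (cond (Nat.beq (Nat.mod (Nat.pred v) 2) 0) (gD 3) (imD 3)) e)))))
    (flagsB y)) 0 3840 = true := by decide +kernel

theorem type_facts : gate (Nat.beq (mulD (mulD (gD 2) (gD 2)) (gD 2)) i0)
    (gate (Bool.not (Nat.beq (gD 2) i0)) (gate (Nat.beq (evalD (gD 2) (gD 3) w2b) (imD 3))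
    (gate (Nat.beq (evalD (gD 2) (imD 3) w2b) (gD 3)) (gate (Nat.beq (imD 0) (gD 1))
    (gate (Nat.beq (imD 1) (gD 0)) (gate (Nat.beq (imD 2) (gD 2))
    (Nat.beq (mulD (mulD (gD 0) (gD 1)) (gD 0)) (gD 1)))))))) = true := by decide +kernel

theorem no_inner : allFrom (fun e => Bool.not (gate (Nat.beq (mulD e (gD 2)) (mulD (gD 2) e))
    (Nat.beq (mulD e (gD 3)) (mulD (imD 3) e)))) 0 3840 = true := by decide +kernel

theorem c1_ok : same (c1W ++ genD 2) (genD 2 ++ c1W) = true ∧
    same (c1W ++ genD 1) (genD 1 ++ genD 0 ++ c1W) = true ∧ same (c1W ++ c1W) [] = true ∧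
    Nat.beq (keyF (genD 3) (key c1W)) (keyF c1W (tupD (imD 3))) = true ∧
    c1W.all (Nat.blt · 6) = true := by decide +kernel

theorem exists_swap [Finite G]
    (hA : ∃ g : G, Conj S g hT rP ∧ Conj S g rP hT) :
    ∃ g : G, ∀ i, i < 3840 → Conj S g (dE i) (dE (sgD i)) := by
  obtain ⟨g, ht, hr⟩ := hA
  obtain ⟨-, -, h2lt, -, -⟩ := gen_facts (show 2 < 4 by norm_num)
  obtain ⟨-, -, h3lt, i3lt, -⟩ := gen_facts (show 3 < 4 by norm_num)
  obtain ⟨-, -, h1lt, -, -⟩ := gen_facts (show 1 < 4 by norm_num)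
  obtain ⟨-, -, h0lt, -, -⟩ := gen_facts (show 0 < 4 by norm_num)
  -- images of the last two generators
  have hex : ∀ j, j < 3840 → ∀ g : G, Conj S g hT rP → Conj S g rP hT → ∃ k, k < 3840 ∧ Conj S g (dE j) (dE k) := by
    intro j hj g ht hr
    obtain ⟨e, he⟩ := Conj.exists_right hr (dE_comm hj)
    obtain ⟨k, hk, rfl⟩ := exists_dE (he.comm ht (hT_central _).symm)
    exact ⟨k, hk, he⟩
  obtain ⟨a, ha, hga⟩ := hex _ h2lt g ht hr
  have tf := type_facts
  simp only [gate_eq, Bool.and_eq_true, Nat.beq_eq, Bool.not_eq_true', ← Bool.not_eq_true] at tf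
  obtain ⟨hcube, hne, hw2b, hw2b', him0, him1, him2, h010⟩ := tf
  have hac : mulD (mulD a a) a = i0 ∧ a ≠ i0 := by
    obtain ⟨h22, e22⟩ := mulD_spec h2lt h2lt
    obtain ⟨h222, e222⟩ := mulD_spec h22 h2lt
    obtain ⟨haa, eaa⟩ := mulD_spec ha ha
    obtain ⟨haaa, eaaa⟩ := mulD_spec haa ha
    constructor
    · refine dE_inj haaa start_ok.2.2 ?_
      rw [← eaaa, ← eaa, dE_i0]
      refine (((hga.mul hga).mul hga).iff Conj.one).1 ?_
      rw [e22, e222, hcube, dE_i0]
    · exact fun e => hne (dE_inj h2lt start_ok.2.2 ((hga.iff (dE_i0.symm ▸ Conj.one)).2 (by rw [e, dE_i0])))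
  have h3 := (allFrom_iff _ _ _).1 three_ok a (Nat.zero_le _) (by omega)
  rw [show gate (Nat.beq (mulD (mulD a a) a) i0) (Bool.not (Nat.beq a i0)) = true by
    rw [hac.1, gate_eq, Bool.and_eq_true, Bool.not_eq_true', ← Bool.not_eq_true, Nat.beq_eq, Nat.beq_eq]
    exact ⟨rfl, hac.2⟩] at h3
  simp only [gate_eq, force_eq, Bool.and_eq_true, Nat.beq_eq] at h3
  obtain ⟨-, he, he'⟩ := h3
  have he : Nat.pred (get16 conj3S a) < 3840 := Nat.ble_eq.mp he
  set e := Nat.pred (get16 conj3S a)
  have hfix : ∀ {x y : ℕ} (hx : x < 3840) (hy : y < 3840), mulD e x = mulD y e →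
      Conj S (S.Φ (dE e)) (dE x) (dE y) := fun hx hy h => Conj.of_mul (by
    rw [(mulD_spec he hx).2, (mulD_spec hy he).2, h])
  have heT : Conj S (S.Φ (dE e)) hT hT := Conj.of_mul (hT_central _).symm
  have her : Conj S (S.Φ (dE e)) rP rP := Conj.of_mul (dE_comm he)
  -- normalise the third generator
  set g1 := S.Φ (dE e) * g
  have ht1 : Conj S g1 hT rP := ht.trans her
  have hr1 : Conj S g1 rP hT := hr.trans heT
  have h21 : Conj S g1 (dE (gD 2)) (dE (gD 2)) := hga.trans (hfix ha h2lt he')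
  obtain ⟨y, hy, hgy⟩ := hex _ h3lt g1 ht1 hr1
  have hflags : flagsB y = true := by
    rw [flagsB, List.all_eq_true]
    intro r _
    have e1 := evalD_conj h2lt h3lt h2lt hy h21 hgy r.1
    have e2 := evalD_conj h2lt h3lt h2lt hy h21 hgy r.2
    have hiff : evalD (gD 2) (gD 3) r.1 = evalD (gD 2) (gD 3) r.2 ↔
        evalD (gD 2) y r.1 = evalD (gD 2) y r.2 :=
      ⟨fun h => dE_inj (evalD_spec h2lt hy _).1 (evalD_spec h2lt hy _).1
          ((e1.iff e2).1 (congrArg dE h)),
        fun h => dE_inj (evalD_spec h2lt h3lt _).1 (evalD_spec h2lt h3lt _).1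
          ((e1.iff e2).2 (congrArg dE h))⟩
    cases hb : Nat.beq (evalD (gD 2) (gD 3) r.1) (evalD (gD 2) (gD 3) r.2) with
    | true => exact Nat.beq_eq ▸ hiff.1 (Nat.eq_of_beq_eq_true hb)
    | false =>
      simp only [cond_false, Bool.not_eq_true', ← Bool.not_eq_true, Nat.beq_eq]
      exact fun h => absurd (Nat.beq_eq ▸ hiff.2 h) (by rw [hb]; decide)
  have hg := (allFrom_iff _ _ _).1 good_ok y (Nat.zero_le _) (by omega)
  rw [hflags] at hg
  simp only [gate_eq, force_eq, Bool.and_eq_true, Nat.beq_eq] at hg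
  obtain ⟨-, hf, hf1, hf2⟩ := hg
  have hf : Nat.div (Nat.pred (get16 goodS y)) 2 < 3840 := Nat.ble_eq.mp hf
  set f := Nat.div (Nat.pred (get16 goodS y)) 2
  have hfix' : ∀ {x z : ℕ} (hx : x < 3840) (hz : z < 3840), mulD f x = mulD z f →
      Conj S (S.Φ (dE f)) (dE x) (dE z) := fun hx hz h => Conj.of_mul (by
    rw [(mulD_spec hf hx).2, (mulD_spec hz hf).2, h])
  set g2 := S.Φ (dE f) * g1
  have ht2 : Conj S g2 hT rP := ht1.trans (Conj.of_mul (dE_comm hf))
  have hr2 : Conj S g2 rP hT := hr1.trans (Conj.of_mul (hT_central _).symm)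
  have h22 : Conj S g2 (dE (gD 2)) (dE (gD 2)) := h21.trans (hfix' h2lt h2lt hf1)
  cases hty : Nat.beq (Nat.mod (Nat.pred (get16 goodS y)) 2) 0 with
  | false =>
    rw [hty] at hf2
    have h32 : Conj S g2 (dE (gD 3)) (dE (imD 3)) := hgy.trans (hfix' hy i3lt hf2)
    refine ⟨g2, fun i hi => ?_⟩
    have hgen : ∀ j, j < 4 → Conj S g2 (Amalgam.hw (genD j)) (dE (imD j)) := by
      intro j hj
      rw [← dE_gD hj]
      interval_cases j
      · rw [him0, dE_T]; exact ht2
      · rw [him1, dE_T]; exact hr2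
      · rw [him2]; exact h22
      · exact h32
    have hwalk : ∀ n w k, k < 3840 → lettersBelow 4 n w = true → Conj S g2 (dE k) (dE (sgD k)) →
        Conj S g2 (dE (foldW (fun j i => nxD i j) n w k)) (dE (sgD (foldW (fun j i => nxD i j) n w k))) := by
      intro n
      induction n with
      | zero => intro w k hk _ h; simpa [foldW] using h
      | succ n ih =>
        intro w k hk hl h
        rw [lettersBelow_succ, Bool.and_eq_true] at hl
        have hj : w % 256 < 4 := Nat.ble_eq.mp hl.1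
        obtain ⟨h1, -, h3'⟩ := nx_spec hk hj
        rw [foldW_succ]
        refine ih _ _ h1 hl.2 ?_
        rw [h3', ← (mulD_spec (path_facts hk).2.2.1 (gen_facts hj).2.2.2.1).2, nxD_mul hk hj]
        exact h.mul (hgen _ hj)
    obtain ⟨hl, hw', -⟩ := path_facts hi
    have := hwalk _ _ i0 start_ok.2.2 hl (by rw [start_ok.2.1, dE_i0]; exact Conj.one)
    rw [walkD, force_eq] at hw'
    rwa [hw'] at this
  | true =>
    exfalso
    rw [hty] at hf2
    have h32 : Conj S g2 (dE (gD 3)) (dE (gD 3)) := hgy.trans (hfix' hy h3lt hf2)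
    have h33 : Conj S g2 (dE (imD 3)) (dE (imD 3)) := by
      have := evalD_conj h2lt h3lt h2lt h3lt h22 h32 w2b
      rwa [hw2b] at this
    obtain ⟨ec2, ec1, ecc, ec3, hcl⟩ := c1_ok
    set c := Amalgam.hw c1W with hc
    have hcc : c * c = 1 := by rw [hc, ← hw_append, ← hw_nil]; exact same_spec ecc
    have c2 : Conj S (S.Φ c) (dE (gD 2)) (dE (gD 2)) := Conj.of_mul (by
      rw [dE_gD (by norm_num), hc, ← hw_append, ← hw_append]; exact same_spec ec2)
    have c1 : Conj S (S.Φ c) rP (rP * hT) := Conj.of_mul (by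
      rw [← dE_T, rP_word, dE_gD (by norm_num), hc, ← hw_append, ← hw_append, ← hw_append]
      exact same_spec ec1)
    have ec : c * dE (gD 3) = dE (imD 3) * c := hm.inj (by
      rw [dE_gD (by norm_num), ← keyF_tup _ _ (gen_facts (show 3 < 4 by norm_num)).1, hc, ← key_tup hcl,
        ← keyF_tup _ _ hcl, dE_spec i3lt]
      exact Nat.eq_of_beq_eq_true ec3)
    have c3 : Conj S (S.Φ c) (dE (gD 3)) (dE (imD 3)) := Conj.of_mul ec
    have c3' : Conj S (S.Φ c) (dE (imD 3)) (dE (gD 3)) := by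
      have := c3.inv
      rwa [← map_inv, inv_eq_of_mul_eq_one_right hcc] at this
    have cT : Conj S (S.Φ c) hT hT := Conj.of_mul (hT_central _).symm
    -- the element `r` of order three on the four-group
    set r := g2 * S.Φ c
    have rT : Conj S r hT rP := cT.trans ht2
    have rR : Conj S r rP (hT * rP) := c1.trans (hr2.mul ht2)
    have hsq : hT * rP * hT = rP := by
      rw [← dE_T, rP, (mulD_spec h0lt h1lt).2, (mulD_spec (mulD_spec h0lt h1lt).1 h0lt).2, h010]
    have rTR : Conj S r (hT * rP) hT := by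
      have h := rT.mul rR
      have e : rP * (hT * rP) = hT := by
        have h2 : rP * rP = 1 := by
          rw [rP_word, ← hw_append, ← hw_nil]; exact same_spec (by decide +kernel)
        rw [← mul_assoc, ← hT_central rP, mul_assoc, h2, mul_one]
      rwa [e] at h
    have r2 : Conj S r (dE (gD 2)) (dE (gD 2)) := c2.trans h22
    have r3 : Conj S r (dE (gD 3)) (dE (imD 3)) := c3.trans h33
    have r3' : Conj S r (dE (imD 3)) (dE (gD 3)) := c3'.trans h32
    obtain ⟨k, hk⟩ := S.mem_range (r * r * r) ((rT.trans rR).trans rTR |> fun h => by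
      rw [Conj] at h
      rw [mul_assoc r r r]
      exact h)
    have kR : Conj S (S.Φ k) rP rP := by
      rw [hk, mul_assoc]
      exact (rR.trans rTR).trans rT
    obtain ⟨kk, hkk, rfl⟩ := exists_dE (d := k) (S.inj (by rw [map_mul, map_mul]; exact kR))
    have k2 : Conj S (S.Φ (dE kk)) (dE (gD 2)) (dE (gD 2)) := by
      rw [hk, mul_assoc]
      exact (r2.trans r2).trans r2
    have k3 : Conj S (S.Φ (dE kk)) (dE (gD 3)) (dE (imD 3)) := by
      rw [hk, mul_assoc]
      exact (r3.trans r3').trans r3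
    have no := (allFrom_iff _ _ _).1 no_inner kk (Nat.zero_le _) (by omega)
    have f2 : mulD kk (gD 2) = mulD (gD 2) kk := by
      refine dE_inj (mulD_spec hkk h2lt).1 (mulD_spec h2lt hkk).1 ?_
      rw [← (mulD_spec hkk h2lt).2, ← (mulD_spec h2lt hkk).2]
      exact S.inj (by rw [map_mul, map_mul]; exact k2)
    have f3 : mulD kk (gD 3) = mulD (imD 3) kk := by
      refine dE_inj (mulD_spec hkk h3lt).1 (mulD_spec i3lt hkk).1 ?_
      rw [← (mulD_spec hkk h3lt).2, ← (mulD_spec i3lt hkk).2]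
      exact S.inj (by rw [map_mul, map_mul]; exact k3)
    rw [gate_eq, f2, f3, show Nat.beq (mulD (gD 2) kk) (mulD (gD 2) kk) = true from Nat.beq_refl _,
      show Nat.beq (mulD (imD 3) kk) (mulD (imD 3) kk) = true from Nat.beq_refl _] at no
    exact absurd no (by decide)

end Cfsg.Agent.HNRec.Phantom
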