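import Cfsg.Agent.HNRec.Phantom.Conj

/-!
The class of size 46200 is not fused to the central involution: a conjugate of a commuting involution
of the model would exchange the central involution with another and would have to act on their
common centraliser, but no element of it can be the image of the probe.
-/

set_option autoImplicit false
set_option maxRecDepth 100000
set_option linter.unusedSectionVars false

namespace Cfsg.Agent.HNRec.Phantom

open Cfsg.Agent.CosetCert Cfsg.Agent.DCoset Fusion PhantomData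

theorem w7_ok : same (w7 ++ [4]) ([4] ++ w7) = true ∧
    same (w7 ++ w7 ++ w7 ++ w7 ++ w7 ++ w7 ++ w7) [] = true ∧ differ w7 [] = true := by decide +kernel

variable {G : Type*} [Group G] [Finite G] (S : Setting G)

/-- An element exchanging the central involution and the involution of the table. -/
theorem exists_exchange (hu : IsConj (S.Φ hT) (S.Φ (E SylData.iUp))) :
    ∃ g : G, Conj S g hT rP ∧ Conj S g rP hT := by
  have : Finite HP := Nat.finite_of_card_ne_zero (by rw [card_HP]; norm_num)
  have hu' : IsConj (S.Φ hT) (S.Φ rP) := by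
    refine hu.trans ?_
    rw [conj_iUp, map_mul, map_mul, map_inv]
    exact isConj_iff.2 ⟨(S.Φ (Amalgam.hw cUp))⁻¹, by group⟩
  obtain ⟨g, hg⟩ := isConj_iff.1 hu'
  have hgt : Conj S g hT rP := by rw [Conj, ← hg]; group
  obtain ⟨p, hp⟩ := S.mem_range (g⁻¹ * S.Φ hT * g) (by
    have h1 : S.Φ hT * S.Φ rP = S.Φ rP * S.Φ hT := by rw [← map_mul, ← map_mul, hT_central]
    calc g⁻¹ * S.Φ hT * g * S.Φ hT = g⁻¹ * (S.Φ hT * (g * S.Φ hT * g⁻¹)) * g := by group
      _ = g⁻¹ * (g * S.Φ hT * g⁻¹ * S.Φ hT) * g := by rw [hg, h1]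
      _ = _ := by group)
  have hgp : Conj S g p hT := by rw [Conj, hp]; group
  have hT2 : Conj S g (1 : HP) 1 := Conj.one
  have h2 : p * p = 1 := ((hgp.mul hgp).iff hT2).2 hT_sq
  have h1 : p ≠ 1 := fun e => hT_ne ((hgp.iff hT2).1 e)
  have ht : p ≠ hT := fun e => by
    have e1 : rP = hT := hgt.right_eq (e ▸ hgp)
    obtain ⟨-, -, h1lt, -, -⟩ := gen_facts (show 1 < 4 by norm_num)
    obtain ⟨-, -, h0lt, -, -⟩ := gen_facts (show 0 < 4 by norm_num)
    exact absurd (dE_inj h1lt h0lt (e1.trans dE_T.symm)) (by decide +kernel)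
  have hc : IsConj (S.Φ hT) (S.Φ p) := isConj_iff.2 ⟨g⁻¹, by rw [hp]; group⟩
  have hex : ∀ d : Subgroup.centralizer ({p} : Set HP),
      ∃ e : Subgroup.centralizer ({rP} : Set HP), Conj S g d e := fun d => by
    obtain ⟨e, he⟩ := Conj.exists_right hgp (Subgroup.mem_centralizer_singleton_iff.1 d.2)
    exact ⟨⟨e, Subgroup.mem_centralizer_singleton_iff.2 (he.comm hgt (hT_central _).symm)⟩, he⟩
  choose f hf using hex
  let F : Subgroup.centralizer ({p} : Set HP) →* Subgroup.centralizer ({rP} : Set HP) :=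
    MonoidHom.mk' f fun a b => Subtype.ext ((hf (a * b)).right_eq ((hf a).mul (hf b)))
  have hF : Function.Injective F := fun a b e => Subtype.ext (by
    refine ((hf a).iff (hf b)).2 ?_
    exact congrArg Subtype.val e)
  rcases classes h2 h1 ht with ⟨-, q, h | h⟩ | ⟨-, q, h | h⟩
  · exfalso
    let K : syl →* Subgroup.centralizer ({p} : Set HP) := MonoidHom.mk' (fun m => ⟨q * m * q⁻¹,
      Subgroup.mem_centralizer_singleton_iff.2 (by
        rw [h]
        calc q * (m : HP) * q⁻¹ * (q * z1 * q⁻¹) = q * ((m : HP) * z1) * q⁻¹ := by group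
          _ = q * (z1 * m) * q⁻¹ := by rw [z1_central m.2]
          _ = _ := by group)⟩) fun a b => Subtype.ext (by simp only [Subgroup.coe_mul]; group)
    have hK : Function.Injective K := fun a b e => Subtype.ext
      (mul_left_cancel (mul_right_cancel (congrArg Subtype.val e)))
    have := Subgroup.card_dvd_of_injective (F.comp K) (hF.comp hK)
    rw [card_syl, card_cent] at this
    norm_num at this
  · exact absurd (hc.trans (h ▸ (Φ_conj S q z0).symm)) S.not_conj_z0
  · exfalso
    obtain ⟨e1, e7, ene⟩ := w7_ok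
    set w := Amalgam.hw w7
    have hwu : w * hgen 2 = hgen 2 * w := by rw [← hw_u, ← hw_append, ← hw_append]; exact same_spec e1
    have hw7 : w ^ 7 = 1 := by
      rw [← hw_nil, ← same_spec e7]
      simp only [hw_append, pow_succ, pow_zero, one_mul, w]
    have hne : w ≠ 1 := by rw [← hw_nil]; exact differ_spec ene
    let d : Subgroup.centralizer ({p} : Set HP) := ⟨q * w * q⁻¹, Subgroup.mem_centralizer_singleton_iff.2 (by
      rw [h]
      calc q * w * q⁻¹ * (q * hgen 2 * q⁻¹) = q * (w * hgen 2) * q⁻¹ := by group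
        _ = q * (hgen 2 * w) * q⁻¹ := by rw [hwu]
        _ = _ := by group)⟩
    have hd : (F d) ^ 7 = 1 := by
      have : d ^ 7 = 1 := Subtype.ext (by
        show (q * w * q⁻¹) ^ 7 = 1
        rw [conj_pow, hw7, mul_one, mul_inv_cancel])
      rw [← map_pow, this, map_one]
    have hd1 : F d ≠ 1 := fun e => hne (by
      have : q * w * q⁻¹ = 1 := congrArg Subtype.val (hF (e.trans (map_one F).symm))
      simpa using this)
    have : Fact (Nat.Prime 7) := ⟨by norm_num⟩
    have h7 := orderOf_dvd_natCard (F d)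
    rw [orderOf_eq_prime hd hd1, card_cent] at h7
    norm_num at h7
  · refine ⟨g * S.Φ (q * Amalgam.hw cUp), ?_, ?_⟩
    · exact (Conj.of_mul (hT_central _).symm).trans hgt
    · refine (Conj.of_mul ?_).trans hgp
      rw [h, conj_iUp]; group

/-! ### The probe -/

/-- The word of a symbol, for a given candidate. -/
noncomputable def symW (cw : List ℕ) (a : ℕ) : List ℕ :=
  cond (Nat.blt a 10) (alphW.getD a []) (cond (Nat.beq a 10) zW cw)

/-- The image symbol. -/
noncomputable def swA (a : ℕ) : ℕ := swapA.getD a 0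

/-- An equation is refuted by a candidate. -/
noncomputable def refuteB (cw : List ℕ) (r : List ℕ × List ℕ) : Bool :=
  gate (r.1.all (Nat.blt · 12)) (gate (r.2.all (Nat.blt · 12))
    (cond (same (r.1.flatMap (symW cw)) (r.2.flatMap (symW cw)))
      (differ ((r.1.map swA).flatMap (symW cw)) ((r.2.map swA).flatMap (symW cw)))
      (gate (differ (r.1.flatMap (symW cw)) (r.2.flatMap (symW cw)))
        (same ((r.1.map swA).flatMap (symW cw)) ((r.2.map swA).flatMap (symW cw))))))

/-- The letters of a packed word. -/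
noncomputable def lettersOf : ℕ → ℕ → List ℕ :=
  fun n => Nat.rec (fun _ => []) (fun _ ih w => Nat.mod w 256 :: ih (Nat.div w 256)) n

/-- Element `i` is no image of the probe. -/
noncomputable def candB (i : ℕ) : Bool :=
  force (get16 candI i) fun n => gate (Nat.blt 0 n) (force (candS.get (Nat.pred n)) fun v =>
    (fun cw => gate (cw.all (Nat.blt · 6))
      (gate (Nat.beq (key (qW ++ cw)) (keyF qW (tupD i)))
        (refuteB cw (rules2.getD (get16 killS (Nat.pred n)) ([], [])))))
      (lettersOf (wLen v) (wBody v)))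

theorem cand_ok : allFrom (fun i => Bool.rec (motive := fun _ => Bool) true (candB i)
    (Nat.beq (mulD i iA2) (mulD iA2 i))) 0 3840 = true := by decide +kernel

theorem probe_ok : allFrom (fun k => force ((rows.getD k (0, 0, 0)).1) fun a =>
    force ((rows.getD k (0, 0, 0)).2.1) fun e => force ((rows.getD k (0, 0, 0)).2.2) fun b =>
    gate (Nat.blt a 3840) (gate (Nat.blt b 3840) (gate (Nat.blt e 3840) (gate (Nat.beq (sgD e) b)
      (Nat.beq (keyF g1W (tupD e))
        (force (sgD a) fun c => force (pathS.get c) fun w => force (key g1W) fun v =>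
          foldW (fun j v => keyF (genD j) v) (wLen w) (wBody w) v)))))) 0 12 = true := by decide +kernel

theorem alph_ok : allFrom (fun a => gate ((alphW.getD a []).all (Nat.blt · 6))
    (gate (Nat.beq (key (alphW.getD a [])) (tupD (alphI.getD a 0)))
      (gate (Nat.blt (alphI.getD a 0) 3840)
        (Nat.beq (swA a) (cond (Nat.blt a 5) (Nat.add a 5) (Nat.sub a 5)))))) 0 10 = true := by decide +kernel

theorem row_facts : allFrom (fun k => gate (Nat.beq (rows.getD k (0, 0, 0)).1 (alphI.getD k 0))
      (Nat.beq (rows.getD k (0, 0, 0)).2.2 (alphI.getD (Nat.add k 5) 0))) 0 5 = true ∧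
    rows.getD 11 (0, 0, 0) = (gD 0, (rows.getD 11 (0, 0, 0)).2.1, iA) ∧
    rows.getD 5 (0, 0, 0) = (zaI, (rows.getD 5 (0, 0, 0)).2.1, zbI) ∧
    swA 10 = 11 ∧ swA 11 = 10 ∧ g1W.all (Nat.blt · 6) = true ∧ same (g1W ++ g1W) [] = true ∧
    zW.all (Nat.blt · 6) = true ∧ qW.all (Nat.blt · 6) = true ∧
    same (zW ++ apW) (apW ++ zW) = true ∧ same (zW ++ zaW) (zaW ++ zW) = true ∧
    same (qW ++ zbW) (genD 1 ++ qW) = true ∧
    key apW = tupD iA ∧ key zaW = tupD zaI ∧ key zbW = tupD zbI ∧
    keyF qW (tupD iA2) = key (qW ++ apW) ∧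
    iA < 3840 ∧ zaI < 3840 ∧ zbI < 3840 ∧ iA2 < 3840 ∧
    apW.all (Nat.blt · 6) = true ∧ zaW.all (Nat.blt · 6) = true ∧ zbW.all (Nat.blt · 6) = true := by
  refine ⟨?_, ?_, ?_, ?_, ?_, ?_, ?_, ?_, ?_, ?_, ?_, ?_, ?_, ?_, ?_, ?_, ?_, ?_, ?_, ?_, ?_, ?_, ?_⟩ <;>
    decide +kernel

theorem hw_flatMap (f : ℕ → List ℕ) : ∀ l : List ℕ,
    Amalgam.hw (l.flatMap f) = (l.map fun a => Amalgam.hw (f a)).prod
  | [] => hw_nil
  | a :: l => by rw [List.flatMap_cons, hw_append, hw_flatMap f l, List.map_cons, List.prod_cons]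

theorem foldGen : ∀ n w a, lettersBelow 4 n w = true →
    foldW (fun j v => keyF (genD j) v) n w (hm.tup a) =
      hm.tup (a * valW (fun j => Amalgam.hw (genD j)) n w) := by
  intro n
  induction n with
  | zero => intro w a _; simp [valW, foldW]
  | succ n ih =>
    intro w a hl
    rw [lettersBelow_succ, Bool.and_eq_true] at hl
    rw [foldW_succ, valW, ← mul_assoc, keyF_tup _ _ (gen_facts (Nat.ble_eq.mp hl.1)).1, ih _ _ hl.2]

/-- The class of size 46200 is not fused to the central involution. -/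
theorem not_conj_up : ¬ IsConj (S.Φ hT) (S.Φ (E SylData.iUp)) := by
  intro hu
  obtain ⟨g, hg⟩ := exists_swap (exists_exchange S hu)
  obtain ⟨hrow, hr11, hr5, hsw, hsw', hg1, hg12, hzW, hqW, hza', hzz, hqb, hkA, hkza, hkzb, hkA2,
    hAlt, hzalt, hzblt, hA2lt, hap, hzaW, hzbW⟩ := row_facts
  set k := g * S.Φ (Amalgam.hw g1W) * g⁻¹ with hk
  have hkk : k * k = 1 := by
    rw [hk, show ∀ x : G, g * x * g⁻¹ * (g * x * g⁻¹) = g * (x * x) * g⁻¹ from fun x => by group,
      ← map_mul, ← hw_append, same_spec hg12, hw_nil, map_one]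
    group
  have hki : k⁻¹ = k := inv_eq_of_mul_eq_one_right hkk
  -- the rows
  have hrows : ∀ n, n < 12 → Conj S k (dE (rows.getD n (0, 0, 0)).1) (dE (rows.getD n (0, 0, 0)).2.2) := by
    intro n hn
    have h := (allFrom_iff _ _ _).1 probe_ok n (Nat.zero_le _) (by omega)
    simp only [gate_eq, force_eq, Bool.and_eq_true, Nat.beq_eq] at h
    obtain ⟨ha, hb, he, hse, heq⟩ := h
    have ha := Nat.ble_eq.mp ha
    have he := Nat.ble_eq.mp he
    obtain ⟨-, -, hc, hcc⟩ := path_facts ha
    have e1 : Conj S g⁻¹ (dE (rows.getD n (0, 0, 0)).1) (dE (sgD (rows.getD n (0, 0, 0)).1)) := by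
      have := hg _ hc
      rw [hcc] at this
      exact this.inv
    have e2 : Conj S (S.Φ (Amalgam.hw g1W)) (dE (sgD (rows.getD n (0, 0, 0)).1))
        (dE (rows.getD n (0, 0, 0)).2.1) := Conj.of_mul (by
      refine hm.inj ?_
      rw [← keyF_tup _ _ hg1, dE_spec he, heq, key_tup hg1,
        foldGen _ _ _ (path_facts hc).1]
      rfl)
    have := (e1.trans e2).trans (hg _ he)
    rw [hse, ← mul_assoc, ← hk] at this
    exact this
  have hkT : Conj S k hT (dE iA) := by
    have := hrows 11 (by norm_num)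
    rwa [hr11, dE_T] at this
  have hkz : Conj S k (dE zaI) (dE zbI) := by
    have := hrows 5 (by norm_num)
    rwa [hr5] at this
  have word_dE : ∀ {w : List ℕ} {i : ℕ}, i < 3840 → w.all (Nat.blt · 6) = true → key w = tupD i →
      Amalgam.hw w = dE i := fun hi hw h => hm.inj (by rw [dE_spec hi, ← h, key_tup hw])
  -- the image of the probe
  set z := Amalgam.hw zW
  have hzA : z * dE iA = dE iA * z := by
    rw [← word_dE hAlt hap hkA, ← hw_append, ← hw_append]; exact same_spec hza'
  have hzza : z * dE zaI = dE zaI * z := by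
    rw [← word_dE hzalt hzaW hkza, ← hw_append, ← hw_append]; exact same_spec hzz
  have hkA' : Conj S k (dE iA) hT := by
    have := hkT.inv
    rwa [hki] at this
  obtain ⟨z', hz⟩ := Conj.exists_right hkA' hzA
  have hz' : Conj S k z' z := by
    have := hz.inv
    rwa [hki] at this
  have hz'b : z' * dE zbI = dE zbI * z' := hz.comm hkz hzza
  have hz'A : z' * dE iA = dE iA * z' := hz.comm hkT (hT_central z).symm
  set q := Amalgam.hw qW
  have hqr : q * dE zbI = rP * q := by
    rw [← word_dE hzblt hzbW hkzb, rP_word, ← hw_append, ← hw_append]; exact same_spec hqb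
  obtain ⟨i, hi, hid⟩ := exists_dE (d := q * z' * q⁻¹) (by
    have e : rP = q * dE zbI * q⁻¹ := by rw [hqr]; group
    rw [e]
    calc q * z' * q⁻¹ * (q * dE zbI * q⁻¹) = q * (z' * dE zbI) * q⁻¹ := by group
      _ = _ := by rw [hz'b]; group)
  have hqA : dE iA2 * q = q * dE iA := by
    refine hm.inj ?_
    rw [← keyF_tup _ _ hqW, dE_spec hA2lt, hkA2, key_tup (by rw [List.all_append, hqW, hap]; rfl),
      hw_append, word_dE hAlt hap hkA]
  have hcomm : mulD i iA2 = mulD iA2 i := by
    refine dE_inj (mulD_spec hi hA2lt).1 (mulD_spec hA2lt hi).1 ?_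
    rw [← (mulD_spec hi hA2lt).2, ← (mulD_spec hA2lt hi).2, hid,
      show dE iA2 = q * dE iA * q⁻¹ by rw [← hqA]; group]
    calc q * z' * q⁻¹ * (q * dE iA * q⁻¹) = q * (z' * dE iA) * q⁻¹ := by group
      _ = _ := by rw [hz'A]; group
  have h := (allFrom_iff _ _ _).1 cand_ok i (Nat.zero_le _) (by omega)
  rw [hcomm, show Nat.beq (mulD iA2 i) (mulD iA2 i) = true from Nat.beq_refl _] at h
  simp only [candB, gate_eq, force_eq, Bool.and_eq_true, Nat.beq_eq] at h
  obtain ⟨-, hcw, hkey, href⟩ := h
  set cw := lettersOf (wLen (candS.get (Nat.pred (get16 candI i)))) (wBody (candS.get (Nat.pred (get16 candI i))))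
  set r := rules2.getD (get16 killS (Nat.pred (get16 candI i))) ([], [])
  have hcz : Amalgam.hw cw = z' := by
    have e : q * Amalgam.hw cw = dE i * q := by
      refine hm.inj ?_
      rw [← keyF_tup _ _ hqW, dE_spec hi, ← hkey, key_tup (by rw [List.all_append, hqW, hcw]; rfl), hw_append]
    rw [hid] at e
    exact mul_left_cancel (e.trans (by group : q * z' * q⁻¹ * q = q * z'))
  -- the symbols go to their partners
  have hsym : ∀ a, a < 12 → Conj S k (Amalgam.hw (symW cw a)) (Amalgam.hw (symW cw (swA a))) := by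
    intro a ha
    rcases Nat.lt_or_ge a 10 with h10 | h10
    · have hA := (allFrom_iff _ _ _).1 alph_ok a (Nat.zero_le _) (by omega)
      simp only [gate_eq, Bool.and_eq_true, Nat.beq_eq] at hA
      obtain ⟨hal, hkeya, halt, hswa⟩ := hA
      have e0 : ∀ b, b < 10 → Amalgam.hw (symW cw b) = dE (alphI.getD b 0) := by
        intro b hb
        have hB := (allFrom_iff _ _ _).1 alph_ok b (Nat.zero_le _) (by omega)
        simp only [gate_eq, Bool.and_eq_true, Nat.beq_eq] at hB
        rw [symW, show Nat.blt b 10 = true from Nat.ble_eq.mpr hb, cond_true]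
        exact word_dE (Nat.ble_eq.mp hB.2.2.1) hB.1 hB.2.1
      rcases Nat.lt_or_ge a 5 with h5 | h5
      · have hr := (allFrom_iff _ _ _).1 hrow a (Nat.zero_le _) (by omega)
        simp only [gate_eq, Bool.and_eq_true, Nat.beq_eq] at hr
        rw [show Nat.blt a 5 = true from Nat.ble_eq.mpr h5, cond_true] at hswa
        rw [hswa, e0 a (by omega), e0 (Nat.add a 5) (show a + 5 < 10 by omega), ← hr.1, ← hr.2]
        exact hrows a (by omega)
      · have hr := (allFrom_iff _ _ _).1 hrow (a - 5) (Nat.zero_le _) (by omega)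
        simp only [gate_eq, Bool.and_eq_true, Nat.beq_eq] at hr
        rw [show Nat.blt a 5 = false from Bool.eq_false_iff.2 fun e => absurd (Nat.ble_eq.mp e) (by omega),
          cond_false] at hswa
        have e5 : Nat.add (a - 5) 5 = a := show a - 5 + 5 = a by omega
        rw [e5] at hr
        rw [hswa, e0 a h10, show Nat.sub a 5 = a - 5 from rfl, e0 (a - 5) (by omega), ← hr.1, ← hr.2]
        have := (hrows (a - 5) (by omega)).inv
        rwa [hki] at this
    · have e10 : Amalgam.hw (symW cw 10) = z := rfl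
      have e11 : Amalgam.hw (symW cw 11) = z' := by rw [← hcz]; rfl
      rcases (by omega : a = 10 ∨ a = 11) with rfl | rfl
      · rw [hsw, e10, e11]; exact hz
      · rw [hsw', e10, e11]; exact hz'
  have hword : ∀ l : List ℕ, l.all (Nat.blt · 12) = true →
      Conj S k (Amalgam.hw (l.flatMap (symW cw))) (Amalgam.hw ((l.map swA).flatMap (symW cw))) := by
    intro l hl
    rw [hw_flatMap, hw_flatMap, List.map_map]
    exact Conj.list _ _ l fun a ha => hsym a (Nat.ble_eq.mp (List.all_eq_true.1 hl a ha))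
  simp only [refuteB, gate_eq, Bool.and_eq_true] at href
  obtain ⟨h1, h2, h3⟩ := href
  have hiff := (hword _ h1).iff (hword _ h2)
  cases hs : same (r.1.flatMap (symW cw)) (r.2.flatMap (symW cw)) with
  | true =>
    rw [hs, cond_true] at h3
    exact differ_spec h3 (hiff.1 (same_spec hs))
  | false =>
    rw [hs, cond_false, Bool.and_eq_true] at h3
    exact differ_spec h3.1 (hiff.2 (same_spec h3.2))

end Cfsg.Agent.HNRec.Phantom
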