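import Cfsg.Agent.HNRec.Fusion.Fused
import Cfsg.Agent.HNRec.Global.Count
import Cfsg.Agent.HNRec.Phantom.Data

/-!
The centraliser in the model of an involution of the class of size 46200, as a table.
-/

set_option autoImplicit false
set_option maxRecDepth 100000

namespace Cfsg.Agent.HNRec.Phantom

open Cfsg.Agent.CosetCert Cfsg.Agent.DCoset Fusion PhantomData

/-- The tuple of element `i`. -/
noncomputable def tupD (i : ℕ) : ℕ := tupS.get i

/-- Generator `j` as a word. -/
noncomputable def genD (j : ℕ) : List ℕ := genW.getD j []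

/-- The product of element `i` and generator `j`. -/
noncomputable def nxD (i j : ℕ) : ℕ := get16 nxS (Nat.add (Nat.mul 4 i) j)

/-- Follow generators from `i`. -/
noncomputable def walkD (i w : ℕ) : ℕ := force w fun w => foldW (fun j i => nxD i j) (wLen w) (wBody w) i

/-- The product of two elements. -/
noncomputable def mulD (i k : ℕ) : ℕ := walkD i (pathS.get k)

/-- Element `i`. -/
noncomputable def dE (i : ℕ) : HP := val (fun j => Amalgam.hw (genD j)) (pathS.get i)

/-- The image of element `i`. -/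
noncomputable def sgD (i : ℕ) : ℕ := get16 sgS i

/-- Generator `j` as an element. -/
noncomputable def gD (j : ℕ) : ℕ := gI.getD j 0

/-- Its image. -/
noncomputable def imD (j : ℕ) : ℕ := imI.getD j 0

theorem gens_ok : allFrom (fun j => gate ((genD j).all (Nat.blt · 6))
    (gate (Nat.beq (nxD i0 j) (gD j)) (gate (Nat.blt (gD j) 3840) (gate (Nat.blt (imD j) 3840)
      (Nat.beq (mulD (gD j) (gD 1)) (mulD (gD 1) (gD j))))))) 0 4 = true := by decide +kernel

/-- One edge: the tuples and the images agree. -/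
noncomputable def edgeB (i j : ℕ) : Bool :=
  force (nxD i j) fun k => gate (Nat.blt k 3840)
    (gate (Nat.beq (keyF (genD j) (tupD i)) (tupD k)) (Nat.beq (sgD k) (mulD (sgD i) (imD j))))

theorem edges_0 : allFrom (fun i => allFrom (edgeB i) 0 4) 0 480 = true := by decide +kernel

theorem edges_1 : allFrom (fun i => allFrom (edgeB i) 0 4) 480 480 = true := by decide +kernel

theorem edges_2 : allFrom (fun i => allFrom (edgeB i) 0 4) 960 480 = true := by decide +kernel

theorem edges_3 : allFrom (fun i => allFrom (edgeB i) 0 4) 1440 480 = true := by decide +kernel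

theorem edges_4 : allFrom (fun i => allFrom (edgeB i) 0 4) 1920 480 = true := by decide +kernel

theorem edges_5 : allFrom (fun i => allFrom (edgeB i) 0 4) 2400 480 = true := by decide +kernel

theorem edges_6 : allFrom (fun i => allFrom (edgeB i) 0 4) 2880 480 = true := by decide +kernel

theorem edges_7 : allFrom (fun i => allFrom (edgeB i) 0 4) 3360 480 = true := by decide +kernel

theorem edge_ok {i : ℕ} (hi : i < 3840) : allFrom (edgeB i) 0 4 = true := by
  rcases Nat.lt_or_ge i 480 with h | h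
  · exact (allFrom_iff _ _ _).1 edges_0 i (by omega) (by omega)
  rcases Nat.lt_or_ge i 960 with h | h
  · exact (allFrom_iff _ _ _).1 edges_1 i (by omega) (by omega)
  rcases Nat.lt_or_ge i 1440 with h | h
  · exact (allFrom_iff _ _ _).1 edges_2 i (by omega) (by omega)
  rcases Nat.lt_or_ge i 1920 with h | h
  · exact (allFrom_iff _ _ _).1 edges_3 i (by omega) (by omega)
  rcases Nat.lt_or_ge i 2400 with h | h
  · exact (allFrom_iff _ _ _).1 edges_4 i (by omega) (by omega)
  rcases Nat.lt_or_ge i 2880 with h | h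
  · exact (allFrom_iff _ _ _).1 edges_5 i (by omega) (by omega)
  rcases Nat.lt_or_ge i 3360 with h | h
  · exact (allFrom_iff _ _ _).1 edges_6 i (by omega) (by omega)
  exact (allFrom_iff _ _ _).1 edges_7 i (by omega) (by omega)

theorem paths_ok : allFrom (fun i => force (pathS.get i) fun w =>
    gate (lettersBelow 4 (wLen w) (wBody w)) (gate (Nat.beq (walkD i0 w) i)
      (force (sgD i) fun k => gate (Nat.blt k 3840) (Nat.beq (sgD k) i)))) 0 3840 = true := by decide +kernel

theorem sorted_ok : allFrom (fun i => Nat.blt (tupD i) (tupD (Nat.succ i))) 0 3839 = true := by decide +kernel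

theorem start_ok : tupD i0 = DCoset.HN.tab.base ∧ sgD i0 = i0 ∧ i0 < 3840 := by decide +kernel

theorem gen_facts {j : ℕ} (hj : j < 4) : (genD j).all (Nat.blt · 6) = true ∧ nxD i0 j = gD j ∧
    gD j < 3840 ∧ imD j < 3840 ∧ mulD (gD j) (gD 1) = mulD (gD 1) (gD j) := by
  have h := (allFrom_iff _ _ _).1 gens_ok j (Nat.zero_le _) (by omega)
  simp only [gate_eq, Bool.and_eq_true] at h
  exact ⟨h.1, Nat.eq_of_beq_eq_true h.2.1, Nat.ble_eq.mp h.2.2.1, Nat.ble_eq.mp h.2.2.2.1,
    Nat.eq_of_beq_eq_true h.2.2.2.2⟩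

theorem nx_spec {i j : ℕ} (hi : i < 3840) (hj : j < 4) :
    nxD i j < 3840 ∧ keyF (genD j) (tupD i) = tupD (nxD i j) ∧ sgD (nxD i j) = mulD (sgD i) (imD j) := by
  have h := (allFrom_iff _ _ _).1 (edge_ok hi) j (Nat.zero_le _) (by omega)
  simp only [edgeB, gate_eq, force_eq, Bool.and_eq_true] at h
  exact ⟨Nat.ble_eq.mp h.1, Nat.eq_of_beq_eq_true h.2.1, Nat.eq_of_beq_eq_true h.2.2⟩

theorem path_facts {i : ℕ} (hi : i < 3840) :
    lettersBelow 4 (wLen (pathS.get i)) (wBody (pathS.get i)) = true ∧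
      walkD i0 (pathS.get i) = i ∧ sgD i < 3840 ∧ sgD (sgD i) = i := by
  have h := (allFrom_iff _ _ _).1 paths_ok i (Nat.zero_le _) (by omega)
  simp only [gate_eq, force_eq, Bool.and_eq_true] at h
  exact ⟨h.1, Nat.eq_of_beq_eq_true h.2.1, Nat.ble_eq.mp h.2.2.1, Nat.eq_of_beq_eq_true h.2.2.2⟩

theorem tupD_lt {i k : ℕ} (hik : i < k) (hk : k < 3840) : tupD i < tupD k := by
  induction k with
  | zero => omega
  | succ k ih =>
    have h := Nat.ble_eq.mp ((allFrom_iff _ _ _).1 sorted_ok k (Nat.zero_le _) (by omega))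
    rcases Nat.lt_or_ge i k with h' | h'
    · exact lt_trans (ih h' (by omega)) h
    · rwa [show i = k by omega]

theorem tupD_inj {i k : ℕ} (hi : i < 3840) (hk : k < 3840) (h : tupD i = tupD k) : i = k := by
  rcases Nat.lt_trichotomy i k with h' | h' | h'
  · exact absurd h (tupD_lt h' hk).ne
  · exact h'
  · exact absurd h (tupD_lt h' hi).ne'

theorem walk_spec : ∀ n w i a, i < 3840 → hm.tup a = tupD i → lettersBelow 4 n w = true →
    foldW (fun j i => nxD i j) n w i < 3840 ∧
      hm.tup (a * valW (fun j => Amalgam.hw (genD j)) n w) = tupD (foldW (fun j i => nxD i j) n w i) := by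
  intro n
  induction n with
  | zero => intro w i a hi ha _; exact ⟨hi, by simpa [valW, foldW] using ha⟩
  | succ n ih =>
    intro w i a hi ha hl
    rw [lettersBelow_succ, Bool.and_eq_true] at hl
    have hj : w % 256 < 4 := Nat.ble_eq.mp hl.1
    obtain ⟨h1, h2, -⟩ := nx_spec hi hj
    rw [valW, ← mul_assoc, foldW_succ]
    exact ih _ _ _ h1 (by rw [← h2, ← ha, keyF_tup _ _ (gen_facts hj).1]) hl.2

theorem dE_spec {i : ℕ} (hi : i < 3840) : hm.tup (dE i) = tupD i := by
  obtain ⟨hl, hw', -⟩ := path_facts hi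
  have hs := (walk_spec (wLen (pathS.get i)) (wBody (pathS.get i)) i0 1 start_ok.2.2
    (by rw [hm.one, hm_base, start_ok.1]) hl).2
  rw [walkD, force_eq] at hw'
  rw [hw', one_mul] at hs
  exact hs

theorem dE_inj {i k : ℕ} (hi : i < 3840) (hk : k < 3840) (h : dE i = dE k) : i = k :=
  tupD_inj hi hk (by rw [← dE_spec hi, ← dE_spec hk, h])

theorem dE_i0 : dE i0 = 1 := hm.inj (by rw [dE_spec start_ok.2.2, start_ok.1, hm.one, hm_base])

theorem mulD_spec {i k : ℕ} (hi : i < 3840) (hk : k < 3840) :
    mulD i k < 3840 ∧ dE i * dE k = dE (mulD i k) := by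
  obtain ⟨h3, h4⟩ := walk_spec (wLen (pathS.get k)) (wBody (pathS.get k)) i (dE i) hi (dE_spec hi)
    (path_facts hk).1
  rw [mulD, walkD, force_eq]
  exact ⟨h3, hm.inj (h4.trans (dE_spec h3).symm)⟩

theorem nxD_mul {i j : ℕ} (hi : i < 3840) (hj : j < 4) : dE (nxD i j) = dE i * Amalgam.hw (genD j) := by
  obtain ⟨h1, h2, -⟩ := nx_spec hi hj
  exact hm.inj (by rw [dE_spec h1, ← h2, ← dE_spec hi, keyF_tup _ _ (gen_facts hj).1])

theorem dE_gD {j : ℕ} (hj : j < 4) : dE (gD j) = Amalgam.hw (genD j) := by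
  rw [← (gen_facts hj).2.1, nxD_mul start_ok.2.2 hj, dE_i0, one_mul]

/-- The involution. -/
noncomputable def rP : HP := dE (gD 1)

theorem dE_T : dE (gD 0) = hT := by rw [dE_gD (by norm_num), show genD 0 = [0, 0] from rfl, hw_t]

theorem rP_word : rP = Amalgam.hw (genD 1) := dE_gD (by norm_num)

theorem dE_comm {i : ℕ} (hi : i < 3840) : dE i * rP = rP * dE i := by
  have hg : ∀ j, j < 4 → Amalgam.hw (genD j) * rP = rP * Amalgam.hw (genD j) := fun j hj => by
    obtain ⟨-, -, h3, -, h5⟩ := gen_facts hj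
    have h1 := (gen_facts (show 1 < 4 by norm_num)).2.2.1
    rw [← dE_gD hj, rP, (mulD_spec h3 h1).2, (mulD_spec h1 h3).2, h5]
  exact Subgroup.mem_centralizer_singleton_iff.1
    (valW_mem (fun j => Amalgam.hw (genD j)) 4 (Subgroup.centralizer {rP})
      (fun j hj => Subgroup.mem_centralizer_singleton_iff.2 (hg j hj)) _ _ (path_facts hi).1)

theorem hE_eq : ∀ w : List ℕ, Global.hE w = Amalgam.hw w
  | [] => by rw [hw_nil]; rfl
  | g :: w => by rw [hw_cons, ← hE_eq w, hm_q]; simp [Global.hE]

theorem conj_facts : same (Global.Data.yW ++ cY) (cY ++ genD 1) = true ∧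
    conjI SylData.iUp cUp (genD 1) = true := by decide +kernel

theorem card_cent : Nat.card (Subgroup.centralizer {rP}) = 3840 := by
  have : Finite HP := Nat.finite_of_card_ne_zero (by rw [card_HP]; norm_num)
  refine le_antisymm ?_ ?_
  · let c := Amalgam.hw cY
    have e : Global.hE Global.Data.yW * c = c * rP := by
      rw [hE_eq, rP_word, ← hw_append, ← hw_append]
      exact same_spec conj_facts.1
    let f : Subgroup.centralizer {rP} → Subgroup.centralizer {Global.hE Global.Data.yW} := fun d =>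
      ⟨c * d * c⁻¹, Subgroup.mem_centralizer_singleton_iff.2 (by
        have hd := Subgroup.mem_centralizer_singleton_iff.1 d.2
        have e' : Global.hE Global.Data.yW = c * rP * c⁻¹ := by rw [← e]; group
        rw [e']
        calc c * d * c⁻¹ * (c * rP * c⁻¹) = c * (d * rP) * c⁻¹ := by group
          _ = _ := by rw [hd]; group)⟩
    refine (Nat.card_le_card_of_injective f fun a b h => ?_).trans Global.card_centralizer_y
    exact Subtype.ext (mul_left_cancel (mul_right_cancel (congrArg Subtype.val h)))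
  · rw [← Nat.card_fin 3840]
    refine Nat.card_le_card_of_injective
      (fun i : Fin 3840 => (⟨dE i, Subgroup.mem_centralizer_singleton_iff.2 (dE_comm i.2)⟩ :
        Subgroup.centralizer {rP})) fun i j e => ?_
    exact Fin.ext (dE_inj i.2 j.2 (congrArg Subtype.val e))

theorem exists_dE {d : HP} (h : d * rP = rP * d) : ∃ i, i < 3840 ∧ dE i = d := by
  have : Finite HP := Nat.finite_of_card_ne_zero (by rw [card_HP]; norm_num)
  let f : Fin 3840 → Subgroup.centralizer {rP} := fun i =>
    ⟨dE i, Subgroup.mem_centralizer_singleton_iff.2 (dE_comm i.2)⟩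
  have hf : Function.Injective f := fun i j e => Fin.ext (dE_inj i.2 j.2 (congrArg Subtype.val e))
  obtain ⟨i, hi⟩ := (hf.bijective_of_nat_card_le (by rw [card_cent, Nat.card_fin])).2
    ⟨d, Subgroup.mem_centralizer_singleton_iff.2 h⟩
  exact ⟨i, i.2, congrArg Subtype.val hi⟩

theorem conj_iUp : rP = (Amalgam.hw cUp)⁻¹ * E SylData.iUp * Amalgam.hw cUp := by
  rw [rP_word, conjI_spec special_ok.2.2.2.2.1 conj_facts.2]

end Cfsg.Agent.HNRec.Phantom
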